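import Groth.Agent.S2079
import Groth.Agent.AmpleDesc5.Proper
import Groth.Agent.AmpleDesc5.RelStage
import Groth.Agent.MorLib.BaseChangeLim
import Groth.Agent.AmpleX.Comp

/-!
# Ampleness on a fibre spreads out, for proper morphisms without finite presentation
-/

set_option autoImplicit false
set_option maxHeartbeats 1000000
set_option synthInstance.maxHeartbeats 400000
set_option linter.style.haveILetI false
set_option backward.isDefEq.respectTransparency.types false
set_option backward.isDefEq.respectTransparency false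

universe u

open CategoryTheory CategoryTheory.Limits AlgebraicGeometry TopologicalSpace

namespace Groth.Agent.AmpleNear22

open Groth.Agent Groth.Agent.AmpleDesc5

theorem isQuasiAffine_of_isAffineHom {X Y : Scheme.{u}} (g : X ⟶ Y) [IsAffineHom g] : Mor2.IsQuasiAffine g :=
  ⟨inferInstance, fun V hV => by
    haveI : IsAffine (g ⁻¹ᵁ V : Scheme) := hV.preimage g
    infer_instance⟩

/-- Over an affine base. -/
theorem exists_relAmple_affine {S X : Scheme.{u}} [IsAffine S] (f : X ⟶ S) [IsProper f]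
    {L : X.Modules} (hL : PicF.IsInvertible L) (s : S)
    (hs : CohB1.IsAmple ((Scheme.Modules.pullback (f.fiberι s)).obj L)) :
    ∃ U : S.Opens, s ∈ U ∧
      RelAmple.IsRelAmple (pullback.snd f U.ι) ((Scheme.Modules.pullback (pullback.fst f U.ι)).obj L) := by
  obtain ⟨I, _, _, D, c, hc, e, hcl, hD⟩ := S2079.result f
  haveI : IsConnected I := IsCofiltered.isConnected I
  let D' := D ⋙ Over.forget S
  let c' := (Over.forget S).mapCone c
  let hc' : IsLimit c' := isLimitOfPreserves (Over.forget S) hc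
  haveI : ∀ {i j : I} (a : i ⟶ j), IsAffineHom (D'.map a) := fun {i j} a => by
    haveI := hcl i j a
    exact inferInstanceAs (IsAffineHom (D.map a).left)
  haveI : ∀ i, CompactSpace (D'.obj i) := fun i => by
    haveI := (hD i).2.1
    exact QuasiCompact.compactSpace_of_compactSpace (D.obj i).hom
  haveI : ∀ i, QuasiSeparatedSpace (D'.obj i) := fun i => by
    haveI := (hD i).2.1
    exact quasiSeparatedSpace_of_quasiSeparated (D.obj i).hom
  -- transport to the limit point
  let fC : c'.pt ⟶ S := c.pt.hom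
  have hfC : e.hom.left ≫ f = fC := Over.w e.hom
  haveI : IsIso e.hom.left := inferInstanceAs (IsIso ((Over.forget S).map e.hom))
  let LC := (Scheme.Modules.pullback e.hom.left).obj L
  have hLC : PicF.IsInvertible LC := PicClLib.isInvertible_pullback _ hL
  have hsC : CohB1.IsAmple ((Scheme.Modules.pullback (fC.fiberι s)).obj LC) :=
    (isAmple_fibre_iff (p := e.hom.left) (u' := fC) (u := f) (h := 𝟙 S)
      (IsPullback.of_horiz_isIso ⟨by rw [Category.comp_id, hfC]⟩) hL s).2 hs
  obtain ⟨j, M, hM, ⟨eM⟩⟩ := exists_invertible_stage D' hc' hLC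
  let g : ∀ i, D'.obj i ⟶ S := fun i => (D.obj i).hom
  have hg : ∀ {i k : I} (a : i ⟶ k), D'.map a ≫ g k = g i := fun a => Over.w (D.map a)
  have hπg : c'.π.app j ≫ g j = fC := Over.w (c.π.app j)
  -- the fibres of the stages
  let xi : (g j).fiber s ⟶ D'.obj j := (g j).fiberι s
  let qX : fC.fiber s ⟶ (g j).fiber s :=
    pullback.lift (fC.fiberι s ≫ c'.π.app j) (fC.fiberToSpecResidueField s)
      (by rw [Category.assoc, hπg]; exact pullback.condition)
  have hX : IsPullback qX (fC.fiberι s) xi (c'.π.app j) := by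
    refine IsPullback.of_right ?_ (pullback.lift_fst _ _ _) (IsPullback.of_hasPullback (g j) (S.fromSpecResidueField s)).flip
    rw [pullback.lift_snd, hπg]
    exact (IsPullback.of_hasPullback fC (S.fromSpecResidueField s)).flip
  let E := MorLib.BC.diag D' xi
  haveI : QuasiCompact (g j) := by haveI := (hD j).2.1; infer_instance
  haveI : QuasiSeparated (g j) := by haveI := (hD j).2.1; infer_instance
  haveI : CompactSpace ↥((g j).fiber s) :=
    QuasiCompact.compactSpace_of_compactSpace ((g j).fiberToSpecResidueField s)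
  haveI : QuasiSeparatedSpace ↥((g j).fiber s) :=
    haveI : QuasiSeparated ((g j).fiberToSpecResidueField s) := MorphismProperty.pullback_snd _ _ inferInstance
    quasiSeparatedSpace_of_quasiSeparated ((g j).fiberToSpecResidueField s)
  have hcE := MorLib.BC.isLimitCone D' xi hX hc'
  haveI : ∀ {a b : Over j} (r : a ⟶ b), IsAffineHom (E.map r) := fun r => MorLib.BC.isAffineHom_map D' xi r
  haveI : ∀ a, CompactSpace (E.obj a) := fun a => MorLib.BC.compactSpace_obj D' xi a
  haveI : ∀ a, QuasiSeparatedSpace (E.obj a) := fun a => MorLib.BC.quasiSeparatedSpace_obj D' xi a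
  let U₀ : Over j := Over.mk (𝟙 j)
  let sU : E.obj U₀ ⟶ D'.obj j := pullback.snd xi (D'.map U₀.hom)
  have hproj : (MorLib.BC.cone D' xi hX).π.app U₀ ≫ sU = fC.fiberι s ≫ c'.π.app j :=
    MorLib.BC.proj_snd D' xi hX U₀
  obtain ⟨a, φ, hφ⟩ := exists_isAmple_pullback_stage E hcE (i := U₀) (M := (Scheme.Modules.pullback sU).obj M)
    (PicClLib.isInvertible_pullback _ hM)
    (AmpleX.isAmple_of_iso ((Scheme.Modules.pullback (fC.fiberι s)).mapIso eM.symm ≪≫
      (Scheme.Modules.pullbackComp _ _).app M ≪≫ (Scheme.Modules.pullbackCongr hproj.symm).app M ≪≫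
      ((Scheme.Modules.pullbackComp _ _).app M).symm) hsC)
  let k := a.left
  let Mk := (Scheme.Modules.pullback (D'.map a.hom)).obj M
  have hMk : PicF.IsInvertible Mk := PicClLib.isInvertible_pullback _ hM
  let sa : E.obj a ⟶ D'.obj k := pullback.snd xi (D'.map a.hom)
  have hφa : φ.left = a.hom := (Category.comp_id _).symm.trans (Over.w φ)
  have hsa : E.map φ ≫ sU = sa ≫ D'.map a.hom := by
    rw [show E.map φ ≫ sU = _ from MorLib.BC.map_snd D' xi φ, hφa]
  have hamp : CohB1.IsAmple ((Scheme.Modules.pullback sa).obj Mk) :=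
    AmpleX.isAmple_of_iso ((Scheme.Modules.pullbackComp _ _).app M ≪≫
      (Scheme.Modules.pullbackCongr hsa).app M ≪≫ ((Scheme.Modules.pullbackComp _ _).app M).symm) hφ
  have hsq : IsPullback sa (pullback.fst xi (D'.map a.hom) ≫ (g j).fiberToSpecResidueField s) (g k)
      (S.fromSpecResidueField s) := by
    have h := ((IsPullback.of_hasPullback xi (D'.map a.hom)).paste_horiz
      (IsPullback.of_hasPullback (g j) (S.fromSpecResidueField s)).flip).flip
    rw [hg] at h
    exact h
  have hk : CohB1.IsAmple ((Scheme.Modules.pullback ((g k).fiberι s)).obj Mk) := by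
    haveI := (hD k).2.1
    haveI : CompactSpace ↥((g k).fiber s) :=
      QuasiCompact.compactSpace_of_compactSpace ((g k).fiberToSpecResidueField s)
    exact AmpleX.isAmple_of_iso ((Scheme.Modules.pullbackComp _ _).app Mk ≪≫
      (Scheme.Modules.pullbackCongr hsq.isoPullback_inv_fst).app Mk)
      (AmpleVan.FiniteSurj.isAmple_pullback_of_isAffineHom hsq.isoPullback.inv hamp)
  -- the ample locus at the stage
  haveI : IsProper (g k) := (hD k).2.1
  haveI : LocallyOfFinitePresentation (g k) := (hD k).2.2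
  obtain ⟨U, -, -, hiff, -⟩ := exists_ampleLocus (g k) hMk (isAffineOpen_top S)
  refine ⟨U, (hiff s trivial).2 hk, ?_⟩
  have h1 : RelAmple.IsRelAmple (pullback.snd (g k) U.ι)
      ((Scheme.Modules.pullback (pullback.fst (g k) U.ι)).obj Mk) :=
    (isRelAmple_iff_forall_fibre _ (PicClLib.isInvertible_pullback _ hMk)).2 fun t =>
      (isAmple_fibre_iff (IsPullback.of_hasPullback (g k) U.ι) hMk t).2 ((hiff _ trivial).1 t.2)
  let π : X ⟶ D'.obj k := inv e.hom.left ≫ c'.π.app k
  haveI : IsClosedImmersion (c'.π.app k) := (hD k).1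
  have hπ : π ≫ g k = f := by
    rw [Category.assoc, show c'.π.app k ≫ g k = fC from Over.w (c.π.app k), ← hfC, IsIso.inv_hom_id_assoc]
  let κ : pullback f U.ι ⟶ pullback (g k) U.ι :=
    pullback.map _ _ _ _ π (𝟙 _) (𝟙 _) (by rw [Category.comp_id, hπ]) (by simp)
  have hκ1 : κ ≫ pullback.fst (g k) U.ι = pullback.fst f U.ι ≫ π := pullback.lift_fst _ _ _
  have hκ2 : κ ≫ pullback.snd (g k) U.ι = pullback.snd f U.ι :=
    (pullback.lift_snd _ _ _).trans (Category.comp_id _)
  have sqκ : IsPullback (pullback.fst f U.ι) κ π (pullback.fst (g k) U.ι) := by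
    refine IsPullback.of_bot ?_ hκ1.symm (IsPullback.of_hasPullback (g k) U.ι)
    rw [hκ2, hπ]
    exact IsPullback.of_hasPullback f U.ι
  haveI : IsAffineHom κ := MorphismProperty.of_isPullback (P := @IsAffineHom) sqκ inferInstance
  have h2 := AmpleX.isRelAmple_pullback_quasiAffine _ κ (isQuasiAffine_of_isAffineHom κ) h1
  rw [hκ2] at h2
  let eL : (Scheme.Modules.pullback π).obj Mk ≅ L :=
    ((Scheme.Modules.pullbackComp (inv e.hom.left) (c'.π.app k)).app Mk).symm ≪≫
      (Scheme.Modules.pullback (inv e.hom.left)).mapIso ((Scheme.Modules.pullbackComp _ _).app M ≪≫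
        (Scheme.Modules.pullbackCongr (c'.w a.hom)).app M ≪≫ eM) ≪≫
      (Scheme.Modules.pullbackComp _ _).app L ≪≫
      (Scheme.Modules.pullbackCongr (IsIso.inv_hom_id e.hom.left)).app L ≪≫
      (Scheme.Modules.pullbackId X).app L
  exact isRelAmple_of_moduleIso ((Scheme.Modules.pullbackComp _ _).app Mk ≪≫
    (Scheme.Modules.pullbackCongr hκ1).app Mk ≪≫ ((Scheme.Modules.pullbackComp _ _).app Mk).symm ≪≫
    (Scheme.Modules.pullback (pullback.fst f U.ι)).mapIso eL) h2

/-- The general case. -/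
theorem exists_relAmple {X Y : Scheme.{u}} (f : X ⟶ Y) [IsProper f] {L : X.Modules} (hL : PicF.IsInvertible L)
    (y : Y) (hy : CohB1.IsAmple ((Scheme.Modules.pullback (f.fiberι y)).obj L)) :
    ∃ V : Y.Opens, y ∈ V ∧ RelAmple.IsRelAmple (f ∣_ V) (L.restrict (f ⁻¹ᵁ V).ι) := by
  obtain ⟨V₀, hV₀, hyV₀, -⟩ := exists_isAffineOpen_mem_and_subset (x := y) (U := ⊤) trivial
  haveI : IsAffine (V₀ : Scheme.{u}) := hV₀
  have sq₀ := IsPullback.of_hasPullback f V₀.ι
  obtain ⟨U, hU, h⟩ := exists_relAmple_affine (pullback.snd f V₀.ι)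
    (PicClLib.isInvertible_pullback _ hL) ⟨y, hyV₀⟩ ((isAmple_fibre_iff sq₀ hL ⟨y, hyV₀⟩).2 hy)
  let V : Y.Opens := V₀.ι ''ᵁ U
  refine ⟨V, ⟨⟨y, hyV₀⟩, hU, rfl⟩, ?_⟩
  let j := U.ι ≫ V₀.ι
  have hr : Set.range V.ι ⊆ Set.range j := by
    rw [Scheme.Opens.range_ι]
    rintro _ ⟨u, hu, rfl⟩
    exact ⟨⟨u, hu⟩, rfl⟩
  let g' : (V : Scheme.{u}) ⟶ U.toScheme := IsOpenImmersion.lift j V.ι hr
  have hg' : g' ≫ U.ι ≫ V₀.ι = V.ι := IsOpenImmersion.lift_fac _ _ _
  have h3 := AmpleX.isRelAmple_baseChange _ g' h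
  have sq : IsPullback (pullback.fst (pullback.snd (pullback.snd f V₀.ι) U.ι) g' ≫
      pullback.fst (pullback.snd f V₀.ι) U.ι ≫ pullback.fst f V₀.ι)
      (pullback.snd (pullback.snd (pullback.snd f V₀.ι) U.ι) g') f V.ι := by
    rw [← hg']
    exact (IsPullback.of_hasPullback _ g').paste_horiz ((IsPullback.of_hasPullback _ U.ι).paste_horiz sq₀)
  exact isRelAmple_of_moduleIso ((Scheme.Modules.restrictFunctorIsoPullback _).app L).symm
    (isRelAmple_congr sq (isPullback_morphismRestrict f V).flip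
      (isRelAmple_of_moduleIso ((Scheme.Modules.pullback (pullback.fst _ g')).mapIso
        ((Scheme.Modules.pullbackComp _ _).app L) ≪≫ (Scheme.Modules.pullbackComp _ _).app L) h3))

end Groth.Agent.AmpleNear22
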